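import Cfsg.Agent.H33.Fi23z.Basic

/-!
The action of the centraliser of `z` on the core modulo `⟨z⟩ × V` and the symmetry induced by the
element of order three.
-/

set_option autoImplicit false
set_option linter.style.haveILetI false
set_option linter.unusedSectionVars false
set_option maxRecDepth 20000

namespace Cfsg.Agent.H33.Fi23z

open Cfsg Subgroup
open Cfsg.Agent.H49.USix (cj_fix_iff cj_mul' cj_one' cj_inv_cj')
open Cfsg.Agent.H2.Fi22z (cj_inv_left)
open H76.LocallyS3 (cj cj_cj cj_injective)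

namespace Config

variable {G : Type*} [Group G] [Finite G] {z c : G} {V J E : Subgroup G} (C : Config z V J E c)
include C

theorem inU_mem {u : G} (hu : InU z V u) : u ∈ J := by
  rcases hu with h | h
  · exact C.V_le h
  · have := J.mul_mem C.zJ (C.V_le h)
    rwa [← mul_assoc, C.z_sq, one_mul] at this

theorem inU_cj {h u : G} (hh : h * z = z * h) (hu : InU z V u) : InU z V (cj h u) := by
  rcases hu with e | e
  · exact Or.inl (C.normV h hh u e)
  · refine Or.inr ?_
    have := C.normV h hh _ e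
    rwa [cj_mul', cj_fix_iff.2 hh] at this

theorem inU_comm {q r : G} (hq : q ∈ J) (hr : r ∈ J) : InU z V (q⁻¹ * cj r q) := by
  rcases C.comm hq hr with e | e
  · rw [cj_fix_iff.2 e, inv_mul_cancel]
    exact Or.inl V.one_mem
  · rw [show cj r q = q * z from mul_inv_eq_iff_eq_mul.2 (by
      rw [e, mul_assoc, (C.le r hr).1, ← mul_assoc]), inv_mul_cancel_left]
    exact Or.inr (by rw [C.z_sq]; exact V.one_mem)

theorem exists_ne : ∃ v ∈ V, v ≠ 1 := by
  by_contra hcon
  push Not at hcon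
  have : V = ⊥ := (eq_bot_iff_forall V).2 hcon
  have h := C.V_card
  rw [this, card_bot] at h
  norm_num at h

theorem c_inv_move {v : G} (hv : v ∈ V) (h : cj c v = cj c⁻¹ v) : v = 1 := by
  refine C.c_free v hv (cj_fix_iff.1 ?_)
  have h2 := congrArg (cj c) h
  rw [cj_inv_left, cj_cj] at h2
  -- `c * c` fixes `v`
  have h3 := congrArg (cj (c * c)) h2
  rw [cj_cj, h2] at h3
  rwa [show c * c * (c * c) = c by
    rw [← mul_assoc, ← pow_two, ← pow_succ, C.c_cube, one_mul]] at h3

theorem c_comm_HV {h : G} (hh : InHV z V h) : cj h c * c⁻¹ ∈ J := by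
  refine (C.c_norm h hh.1).resolve_right fun hj => ?_
  obtain ⟨v, hv, hv1⟩ := C.exists_ne
  refine hv1 (C.c_inv_move hv ?_)
  have h1 : cj (cj h c) v = cj c v := by
    have e : cj (cj h c) v = cj h (cj c (cj h⁻¹ v)) := by simp [cj, mul_assoc]
    rw [e, cj_fix_iff.2 ((C.inHV_inv hh).2 v hv), cj_fix_iff.2 (hh.2 _ (C.normV c C.c_comm v hv))]
  have h2 : cj (cj h c) v = cj c⁻¹ v := by
    conv_lhs => rw [show cj h c = cj h c * c * c⁻¹ from (mul_inv_cancel_right _ _).symm, ← cj_cj,
      cj_fix_iff.2 ((C.le _ hj).2 _ (C.normV c⁻¹ (cz_inv C.c_comm) v hv))]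
  exact h1.symm.trans h2

theorem c_inv_HV {h : G} (hh : h * z = z * h) (hn : ¬ InHV z V h) {v : G} (hv : v ∈ V) (hv1 : v ≠ 1)
    (hhv : h * v = v * h) : cj h c * c ∈ J := by
  refine (C.c_norm h hh).resolve_left fun hj => hn ⟨hh, ?_⟩
  have hcv := C.normV c C.c_comm v hv
  have h1 : cj (cj h c) v = cj c v := by
    conv_lhs => rw [show cj h c = cj h c * c⁻¹ * c from (inv_mul_cancel_right _ _).symm, ← cj_cj,
      cj_fix_iff.2 ((C.le _ hj).2 _ hcv)]
  have h2 : cj h (cj c v) = cj c v := by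
    have e : cj (cj h c) (cj h v) = cj h (cj c v) := by simp [cj, mul_assoc]
    rw [cj_fix_iff.2 hhv, h1] at e
    exact e.symm
  have hc1 : cj c v ≠ 1 := fun e => hv1 (cj_injective c (e.trans (by simp [cj])))
  have hcv' : cj c v ≠ v := fun e => hv1 (C.c_free v hv (cj_fix_iff.1 e))
  intro u hu
  rcases C.V_four hv hcv hv1 hc1 hcv' u hu with e | e | e | e <;> rw [e]
  · simp
  · exact hhv
  · exact cj_fix_iff.1 h2
  · exact (Commute.mul_right (show Commute h v from hhv) (cj_fix_iff.1 h2)).eq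

variable {X : Type*} [AddCommGroup X] (π : G → X)
  (π_mul : ∀ a ∈ J, ∀ b ∈ J, π (a * b) = π a + π b) (π_surj : ∀ w, ∃ q ∈ J, π q = w)
  (π_zero : ∀ q ∈ J, π q = 0 ↔ InU z V q)
include π_mul π_surj π_zero

/-- The action on the core modulo `⟨z⟩ × V`. -/
theorem exists_act : ∃ σ : G → Equiv.Perm X,
    (∀ h : G, h * z = z * h → ∀ q ∈ J, π (cj h q) = σ h (π q)) ∧
    (∀ a b : G, a * z = z * a → b * z = z * b → σ (a * b) = σ a * σ b) ∧
    (∀ h : G, h * z = z * h → ∀ u v, σ h (u + v) = σ h u + σ h v) ∧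
    (∀ w, σ c w = w → w = 0) ∧
    (∀ h : G, InHV z V h → σ h * σ c = σ c * σ h) ∧
    ∀ h : G, h * z = z * h → ¬ InHV z V h → (∃ v ∈ V, v ≠ 1 ∧ h * v = v * h) →
      σ h * σ c = (σ c)⁻¹ * σ h := by
  classical
  choose sec hsec hπsec using π_surj
  have π_one : π 1 = 0 := (π_zero 1 J.one_mem).2 (Or.inl V.one_mem)
  have π_inv : ∀ q ∈ J, π q⁻¹ = -π q := fun q hq => by
    have h := π_mul q⁻¹ (J.inv_mem hq) q hq
    rw [inv_mul_cancel, π_one] at h
    exact eq_neg_of_add_eq_zero_left h.symm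
  have wd : ∀ h : G, h * z = z * h → ∀ q ∈ J, ∀ r ∈ J, π q = π r → π (cj h q) = π (cj h r) := by
    intro h hh q hq r hr e
    have hu : InU z V (q⁻¹ * r) := by
      refine (π_zero _ (J.mul_mem (J.inv_mem hq) hr)).1 ?_
      rw [π_mul _ (J.inv_mem hq) _ hr, π_inv q hq, e, neg_add_cancel]
    have hqJ := C.normJ h hh q hq
    have hu' := C.inU_cj hh hu
    conv_rhs => rw [show cj h r = cj h q * cj h (q⁻¹ * r) by rw [← cj_mul', mul_inv_cancel_left]]
    rw [π_mul _ hqJ _ (C.inU_mem hu'), (π_zero _ (C.inU_mem hu')).2 hu', add_zero]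
  let f : G → X → X := fun h w => π (cj h (sec w))
  have hf : ∀ h : G, h * z = z * h → ∀ q ∈ J, π (cj h q) = f h (π q) := fun h hh q hq =>
    wd h hh q hq _ (hsec _) (hπsec _).symm
  have hmul : ∀ a b : G, a * z = z * a → b * z = z * b → ∀ w, f (a * b) w = f a (f b w) := by
    intro a b ha hb w
    show π (cj (a * b) (sec w)) = _
    rw [← cj_cj, hf a ha _ (C.normJ b hb _ (hsec w))]
  have hJ1 : ∀ j ∈ J, ∀ w, f j w = w := by
    intro j hj w
    have hu := C.inU_comm (hsec w) hj
    show π (cj j (sec w)) = w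
    rw [show cj j (sec w) = sec w * ((sec w)⁻¹ * cj j (sec w)) from (mul_inv_cancel_left _ _).symm,
      π_mul _ (hsec w) _ (C.inU_mem hu), (π_zero _ (C.inU_mem hu)).2 hu, add_zero, hπsec]
  let σ : G → Equiv.Perm X := fun h => if hh : h * z = z * h then
    { toFun := f h, invFun := f h⁻¹
      left_inv := fun w => by rw [← hmul _ _ (cz_inv hh) hh, inv_mul_cancel]; exact hJ1 1 J.one_mem w
      right_inv := fun w => by
        rw [← hmul _ _ hh (cz_inv hh), mul_inv_cancel]; exact hJ1 1 J.one_mem w } else 1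
  have hσ : ∀ h : G, h * z = z * h → ∀ w, σ h w = f h w := fun h hh w => by
    simp only [σ, dif_pos hh]; rfl
  have hσmul : ∀ a b : G, a * z = z * a → b * z = z * b → σ (a * b) = σ a * σ b := fun a b ha hb =>
    Equiv.ext fun w => by
      rw [Equiv.Perm.mul_apply, hσ _ (cz_mul ha hb), hσ a ha, hσ b hb, hmul a b ha hb]
  have hσJ : ∀ j ∈ J, σ j = 1 := fun j hj => Equiv.ext fun w => by
    rw [hσ j (C.le j hj).1, hJ1 j hj]; rfl
  have hσinv : ∀ a : G, a * z = z * a → σ a⁻¹ = (σ a)⁻¹ := fun a ha => by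
    refine eq_inv_of_mul_eq_one_left ?_
    rw [← hσmul _ _ (cz_inv ha) ha, inv_mul_cancel, hσJ 1 J.one_mem]
  refine ⟨σ, fun h hh q hq => by rw [hσ h hh, hf h hh q hq], hσmul, fun h hh u v => ?_,
    fun w hw => ?_, fun h hh => ?_, fun h hh hn ⟨v, hv, hv1, hhv⟩ => ?_⟩
  · rw [hσ h hh, hσ h hh, hσ h hh]
    show π (cj h (sec (u + v))) = π (cj h (sec u)) + π (cj h (sec v))
    rw [wd h hh _ (hsec _) _ (J.mul_mem (hsec u) (hsec v))
      (by rw [hπsec, π_mul _ (hsec u) _ (hsec v), hπsec, hπsec]),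
      cj_mul', π_mul _ (C.normJ h hh _ (hsec u)) _ (C.normJ h hh _ (hsec v))]
  · rw [hσ c C.c_comm] at hw
    have hq := hsec w
    set q := sec w with hqdef
    have hqc := C.normJ c C.c_comm q hq
    set u := q⁻¹ * cj c q with hu
    have huJ : u ∈ J := J.mul_mem (J.inv_mem hq) hqc
    have huU : InU z V u := (π_zero u huJ).1 (by
      rw [hu, π_mul _ (J.inv_mem hq) _ hqc, π_inv q hq, show π (cj c q) = w from hw,
        hπsec, neg_add_cancel])
    have e1 : cj c q = q * u := (mul_inv_cancel_left q _).symm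
    have h3 : cj (c * c * c) q = q := by
      rw [← pow_two, ← pow_succ, C.c_cube, cj_one']
    rw [← cj_cj, ← cj_cj, e1, cj_mul' c q u, e1, cj_mul' c (q * u) (cj c u), cj_mul' c q u,
      e1] at h3
    have h3' : u * cj c u * cj c (cj c u) = 1 := by
      simp only [mul_assoc] at h3 ⊢
      exact mul_eq_left.1 h3
    have huV : u ∈ V := by
      rcases huU with h | h
      · exact h
      · exfalso
        have hzu : u = z * (z * u) := by rw [← mul_assoc, C.z_sq, one_mul]
        set x := z * u with hx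
        have hx1 := C.normV c C.c_comm x h
        have hx2 := C.normV c C.c_comm _ hx1
        have hcz : cj c z = z := cj_fix_iff.2 C.c_comm
        have hu1 : cj c u = z * cj c x := by rw [hx, cj_mul' c z u, hcz, ← mul_assoc, C.z_sq, one_mul]
        have hu2 : cj c (cj c u) = z * cj c (cj c x) := by rw [hu1, cj_mul' c z (cj c x), hcz]
        have h4 : z * x * (z * cj c x) * (z * cj c (cj c x)) = 1 := by
          rw [← hu2, ← hu1, ← hzu]; exact h3'
        have hxz : x * z = z * x := (C.le x (C.V_le h)).1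
        have hxz1 : cj c x * z = z * cj c x := (C.le _ (C.V_le hx1)).1
        have e : z * x * (z * cj c x) * (z * cj c (cj c x)) = z * (x * cj c x * cj c (cj c x)) := by
          calc z * x * (z * cj c x) * (z * cj c (cj c x))
              = z * (x * z) * (cj c x * z) * cj c (cj c x) := by group
            _ = z * z * x * (z * cj c x) * cj c (cj c x) := by rw [hxz, hxz1]; group
            _ = z * z * (x * z) * cj c x * cj c (cj c x) := by group
            _ = _ := by rw [hxz, C.z_sq]; group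
        rw [e] at h4
        refine C.zV ?_
        rw [eq_inv_of_mul_eq_one_left h4]
        exact V.inv_mem (V.mul_mem (V.mul_mem h hx1) hx2)
    -- adjust by an element of `V`
    let g : ↥V → ↥V := fun x =>
      ⟨(x : G) * cj c (x : G), V.mul_mem x.2 (C.normV c C.c_comm _ x.2)⟩
    have hg : Function.Injective g := fun x y e => by
      have e' : (x : G) * cj c (x : G) = (y : G) * cj c (y : G) := congrArg Subtype.val e
      have hx := C.normV c C.c_comm _ x.2
      have hy := C.normV c C.c_comm _ y.2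
      have hxy : cj c ((x : G)⁻¹ * y) = (x : G)⁻¹ * y := by
        have hcy : cj c (y : G) = (y : G)⁻¹ * ((x : G) * cj c (x : G)) := by
          rw [e', inv_mul_cancel_left]
        have hinv : cj c ((x : G)⁻¹) = (cj c (x : G))⁻¹ := by simp [cj, mul_assoc]
        have hm : (y : G)⁻¹ * (x : G) ∈ V := V.mul_mem (V.inv_mem y.2) x.2
        rw [cj_mul' c ((x : G)⁻¹) y, hinv, hcy, ← mul_assoc ((y : G)⁻¹),
          (C.le _ (C.V_le hm)).2 _ hx, inv_mul_cancel_left, ← C.V_inv hm, mul_inv_rev, inv_inv]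
      have h1 := C.c_free _ (V.mul_mem (V.inv_mem x.2) y.2) (cj_fix_iff.1 hxy)
      exact Subtype.ext (inv_mul_eq_one.1 h1)
    obtain ⟨⟨x, hx⟩, hgx⟩ := Finite.injective_iff_surjective.1 hg ⟨u, huV⟩
    have hux : x * cj c x = u := congrArg Subtype.val hgx
    have hfix : cj c (q * x) = q * x := by
      rw [cj_mul', e1, ← hux, mul_assoc q, mul_assoc x, C.V_sq _ (C.normV c C.c_comm x hx),
        mul_one]
    have hxJ := C.V_le hx
    have hπx : π x = 0 := (π_zero x hxJ).2 (Or.inl hx)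
    have hqx : InU z V (q * x) := by
      rcases C.c_J _ (J.mul_mem hq hxJ) (cj_fix_iff.1 hfix) with e | e <;> rw [e]
      · exact Or.inl V.one_mem
      · exact Or.inr (by rw [C.z_sq]; exact V.one_mem)
    have := (π_zero _ (J.mul_mem hq hxJ)).2 hqx
    rwa [π_mul q hq x hxJ, hπx, add_zero, hπsec] at this
  · have hj := C.c_comm_HV hh
    have e : h * c = cj h c * c⁻¹ * c * h := by simp [cj, mul_assoc]
    calc σ h * σ c = σ (h * c) := (hσmul h c hh.1 C.c_comm).symm
      _ = σ (cj h c * c⁻¹ * c) * σ h := by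
          rw [← hσmul _ _ (cz_mul (C.le _ hj).1 C.c_comm) hh.1, ← e]
      _ = σ c * σ h := by rw [hσmul _ _ (C.le _ hj).1 C.c_comm, hσJ _ hj, one_mul]
  · have hj := C.c_inv_HV hh hn hv hv1 hhv
    have e : h * c = cj h c * c * c⁻¹ * h := by simp [cj, mul_assoc]
    calc σ h * σ c = σ (h * c) := (hσmul h c hh C.c_comm).symm
      _ = σ (cj h c * c * c⁻¹) * σ h := by
          rw [← hσmul _ _ (cz_mul (C.le _ hj).1 (cz_inv C.c_comm)) hh, ← e]
      _ = (σ c)⁻¹ * σ h := by
          rw [hσmul _ _ (C.le _ hj).1 (cz_inv C.c_comm), hσJ _ hj, one_mul, hσinv c C.c_comm]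

end Config

end Cfsg.Agent.H33.Fi23z
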