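import Cfsg.Agent.H33.Fi23z.Config
import Cfsg.Agent.S0270

/-!
Elementary consequences of the configuration and of the quotient of the centraliser of `z` and `V`.
-/

set_option autoImplicit false
set_option linter.style.haveILetI false
set_option linter.unusedSectionVars false
set_option maxRecDepth 20000

namespace Cfsg.Agent.H33.Fi23z

open Cfsg Subgroup
open Cfsg.Agent.H92.ExtraForm (zp FormMap exists_formMap)
open Cfsg.Agent.H49.USix (cj_fix_iff cj_mul' cj_one' cj_inv_cj')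
open H76.LocallyS3 (cj cj_cj cj_injective)

theorem cz_mul {G : Type*} [Group G] {z a b : G} (ha : a * z = z * a) (hb : b * z = z * b) :
    a * b * z = z * (a * b) :=
  (Commute.mul_left (show Commute a z from ha) hb).eq

theorem cz_inv {G : Type*} [Group G] {z a : G} (ha : a * z = z * a) : a⁻¹ * z = z * a⁻¹ :=
  (Commute.inv_left (show Commute a z from ha)).eq

theorem card_psp {F : Type*} [Field F] [Fintype F] (hF : Fintype.card F = 3) : Nat.card (Cfsg.PSp 2 F) = 25920 := by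
  rw [Symplectic.card_psp 2 F (by norm_num), hF, Finset.prod_range_succ, Finset.prod_range_one]
  norm_num

namespace Config

variable {G : Type*} [Group G] [Finite G] {z c : G} {V J E : Subgroup G} (C : Config z V J E c)
include C

theorem z_sq : z * z = 1 := by rw [← pow_two, ← C.z_ord, pow_orderOf_eq_one]

theorem z_ne : z ≠ 1 := fun e => by
  have := C.z_ord; rw [e, orderOf_one] at this; norm_num at this

theorem zJ : z ∈ J := C.E_le C.zE

theorem V_inv {v : G} (hv : v ∈ V) : v⁻¹ = v := inv_eq_of_mul_eq_one_right (C.V_sq v hv)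

theorem inHV_z : InHV z V z := ⟨rfl, fun v hv => ((C.le v (C.V_le hv)).1).symm⟩

theorem inHV_one : InHV z V (1 : G) := ⟨by simp, fun v _ => by simp⟩

theorem inHV_mul {a b : G} (ha : InHV z V a) (hb : InHV z V b) : InHV z V (a * b) :=
  ⟨cz_mul ha.1 hb.1, fun v hv => (Commute.mul_left (ha.2 v hv) (hb.2 v hv)).eq⟩

theorem inHV_inv {a : G} (ha : InHV z V a) : InHV z V a⁻¹ :=
  ⟨cz_inv ha.1, fun v hv => (Commute.inv_left (ha.2 v hv)).eq⟩

theorem inHV_cj {h a : G} (hh : h * z = z * h) (ha : InHV z V a) : InHV z V (cj h a) := by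
  refine ⟨?_, fun v hv => ?_⟩
  · exact cz_mul (cz_mul hh ha.1) (cz_inv hh)
  · have e : cj h a * cj h (cj h⁻¹ v) = cj h (cj h⁻¹ v) * cj h a :=
      Cfsg.Agent.H2.Fi22z.cj_comm (ha.2 _ (C.normV h⁻¹ (cz_inv hh) v hv))
    rw [Cfsg.Agent.H2.Fi22z.cj_inv_left] at e
    exact e

theorem form : ∀ q ∈ E, ∀ r ∈ E,
    (q * q = 1 ∨ q * q = z) ∧ (r * q = q * r ∨ r * q = q * r * z) := by
  intro q hq r hr
  obtain ⟨n, hn⟩ : ∃ n, n = (⟨z, C.zE⟩ : ↥E) := ⟨_, rfl⟩
  have hnc : n ∈ center ↥E := mem_center_iff.2 fun g => Subtype.ext (by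
    rw [hn]; exact (C.le g (C.E_le g.2)).1)
  have hn1 : n ≠ 1 := fun e => C.z_ne (by rw [hn] at e; exact congrArg Subtype.val e)
  rcases exists_formMap C.E_extra 4 (by norm_num) C.E_card with h | h
  all_goals
    obtain ⟨Fm⟩ := h
    have hz : Fm.z = n := ((Fm.mem_center n).1 hnc |>.resolve_left hn1).symm
    have hzp : ∀ t : ZMod 2, ((zp Fm.z t : ↥E) : G) = 1 ∨ ((zp Fm.z t : ↥E) : G) = z := fun t => by
      unfold zp; split_ifs
      · exact Or.inl rfl
      · right; rw [hz, hn]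
    refine ⟨?_, ?_⟩
    · have h := congrArg Subtype.val (Fm.sq ⟨q, hq⟩)
      simp only [coe_mul] at h
      rw [h]; exact hzp _
    · have h := congrArg Subtype.val (Fm.comm ⟨q, hq⟩ ⟨r, hr⟩)
      simp only [coe_mul] at h
      rcases hzp _ with e | e <;> rw [e] at h
      · left; rw [h, mul_one]
      · exact Or.inr h

/-- An element of the core is one of `V` times one of `E`. -/
theorem dec' {q : G} (hq : q ∈ J) : ∃ v ∈ V, ∃ e ∈ E, q = v * e := by
  obtain ⟨v, hv, he⟩ := C.dec q hq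
  exact ⟨v, hv, _, he, by rw [← mul_assoc, C.V_sq v hv, one_mul]⟩

theorem sq {q : G} (hq : q ∈ J) : q * q = 1 ∨ q * q = z := by
  obtain ⟨v, hv, e, he, rfl⟩ := C.dec' hq
  have h : v * e * (v * e) = e * e := by
    rw [mul_assoc, ← mul_assoc e, (C.le e (C.E_le he)).2 v hv, mul_assoc v, ← mul_assoc v,
      C.V_sq v hv, one_mul]
  rw [h]
  exact (C.form e he e he).1

theorem comm {q r : G} (hq : q ∈ J) (hr : r ∈ J) : r * q = q * r ∨ r * q = q * r * z := by
  obtain ⟨v, hv, e, he, rfl⟩ := C.dec' hq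
  obtain ⟨w, hw, f, hf, rfl⟩ := C.dec' hr
  have hc : ∀ x ∈ J, ∀ v ∈ V, Commute x v := fun x hx v hv => (C.le x hx).2 v hv
  have h1 : w * f * (v * e) = w * v * (f * e) := by
    rw [mul_assoc, ← mul_assoc f, (hc f (C.E_le hf) v hv).eq, mul_assoc v, ← mul_assoc]
  have h2 : v * e * (w * f) = w * v * (e * f) := by
    rw [mul_assoc, ← mul_assoc e, (hc e (C.E_le he) w hw).eq, mul_assoc w, ← mul_assoc,
      (hc v (C.V_le hv) w hw).eq]
  rw [h1, h2]
  rcases (C.form e he f hf).2 with h | h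
  · left; rw [h]
  · right; rw [h]; group

theorem nonab : ∃ q ∈ J, ∃ r ∈ J, r * q = q * r * z := by
  by_contra hcon
  push Not at hcon
  have h : ∀ g : ↥E, g ∈ center ↥E := fun g => mem_center_iff.2 fun r => Subtype.ext
    ((C.comm (C.E_le g.2) (C.E_le r.2)).resolve_right (hcon _ (C.E_le g.2) _ (C.E_le r.2)))
  have h2 := C.E_extra.2
  rw [show center ↥E = ⊤ from eq_top_iff.2 fun g _ => h g, card_top, C.E_card] at h2
  norm_num at h2

theorem center_J {x : G} (hx : x ∈ J) (h : ∀ q ∈ J, x * q = q * x) : InU z V x := by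
  obtain ⟨v, hv, e, he, rfl⟩ := C.dec' hx
  have hec : ∀ q ∈ E, e * q = q * e := fun q hq => by
    have h' := h q (C.E_le hq)
    rw [mul_assoc, ← mul_assoc q, (C.le q (C.E_le hq)).2 v hv, mul_assoc] at h'
    exact mul_left_cancel h'
  have h2 : Nat.card (center ↥E) = 2 := C.E_extra.2
  obtain ⟨⟨w, hw⟩, -, huniq⟩ := (Nat.card_eq_two_iff' (⟨1, one_mem _⟩ : center ↥E)).mp h2
  have hzc : (⟨z, C.zE⟩ : ↥E) ∈ center ↥E :=
    mem_center_iff.2 fun g => Subtype.ext (C.le g (C.E_le g.2)).1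
  have hyE : (⟨e, he⟩ : ↥E) ∈ center ↥E := mem_center_iff.2 fun g => Subtype.ext (hec g g.2).symm
  by_cases h1 : e = 1
  · left; rwa [h1, mul_one]
  · have e1 := huniq ⟨_, hzc⟩ fun e => C.z_ne (congrArg (fun v : center ↥E => ((v : ↥E) : G)) e)
    have e2 := huniq ⟨_, hyE⟩ fun e => h1 (congrArg (fun v : center ↥E => ((v : ↥E) : G)) e)
    have ez : e = z := congrArg (fun v : center ↥E => ((v : ↥E) : G)) (e2.trans e1.symm)
    right
    rw [ez, ← mul_assoc, ← (C.le v (C.V_le hv)).1, mul_assoc, C.z_sq, mul_one]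
    exact hv

/-- The four elements of `V`. -/
theorem V_four {v w : G} (hv : v ∈ V) (hw : w ∈ V) (hv1 : v ≠ 1) (hw1 : w ≠ 1) (hwv : w ≠ v) :
    ∀ u ∈ V, u = 1 ∨ u = v ∨ u = w ∨ u = v * w := by
  intro u hu
  by_contra hcon
  push Not at hcon
  obtain ⟨h1, h2, h3, h4⟩ := hcon
  have hvw1 : v * w ≠ 1 := fun e => hwv (by
    rw [← C.V_inv hv]; exact (inv_eq_of_mul_eq_one_right e).symm)
  have hvwv : v * w ≠ v := fun e => hw1 (mul_eq_left.1 e)
  have hvww : v * w ≠ w := fun e => hv1 (mul_eq_right.1 e)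
  classical
  haveI : Fintype ↥V := Fintype.ofFinite _
  have hsub : ({1, v, w, v * w, u} : Finset G) ⊆ (Finset.univ : Finset ↥V).map ⟨Subtype.val, Subtype.val_injective⟩ := by
    intro x hx
    simp only [Finset.mem_insert, Finset.mem_singleton] at hx
    rw [Finset.mem_map]
    refine ⟨⟨x, ?_⟩, Finset.mem_univ _, rfl⟩
    rcases hx with rfl | rfl | rfl | rfl | rfl
    exacts [V.one_mem, hv, hw, V.mul_mem hv hw, hu]
  have := Finset.card_le_card hsub
  rw [Finset.card_map, Finset.card_univ, ← Nat.card_eq_fintype_card (α := ↥V), C.V_card,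
    Finset.card_insert_of_notMem (by simp [hv1.symm, hw1.symm, hvw1.symm, h1.symm]),
    Finset.card_insert_of_notMem (by simp [hwv.symm, hvwv.symm, h2.symm]),
    Finset.card_insert_of_notMem (by simp [hvww.symm, h3.symm]),
    Finset.card_insert_of_notMem (by simp [h4.symm]), Finset.card_singleton] at this
  omega

/-- An element of the centraliser of `z` of odd order fixing an element of `V` centralises `V`. -/
theorem odd_fix {x : G} (hx : x * z = z * x) (ho : Odd (orderOf x)) {v : G} (hv : v ∈ V) (hv1 : v ≠ 1)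
    (hxv : x * v = v * x) : InHV z V x := by
  refine ⟨hx, fun w hw => ?_⟩
  have hwV := C.normV x hx w hw
  by_contra hne
  have hne' : cj x w ≠ w := fun e => hne (cj_fix_iff.1 e)
  have hw1 : w ≠ 1 := fun e => hne (by rw [e]; simp)
  have hwv : w ≠ v := fun e => hne (by rw [e]; exact hxv)
  have hall := C.V_four hv hw hv1 hw1 hwv
  have h1 : cj x w = v * w := by
    rcases hall _ hwV with e | e | e | e
    · exact absurd (cj_injective x (e.trans (by simp [cj]))) hw1
    · exact absurd (cj_injective x (e.trans (cj_fix_iff.2 hxv).symm)) hwv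
    · exact absurd e hne'
    · exact e
  have h2 : cj (x ^ 2) w = w := by
    rw [pow_two, ← cj_cj, h1, cj_mul', h1, cj_fix_iff.2 hxv, ← mul_assoc, C.V_sq v hv, one_mul]
  obtain ⟨k, hk⟩ := ho
  have h3 : cj (x ^ (2 * k)) w = w := cj_fix_iff.2
    (by rw [pow_mul]; exact ((show Commute (x ^ 2) w from cj_fix_iff.1 h2).pow_left k).eq)
  have h4 : cj x⁻¹ w = w := by
    rwa [show x ^ (2 * k) = x⁻¹ from eq_inv_of_mul_eq_one_left (by
      rw [← pow_succ, ← hk, pow_orderOf_eq_one])] at h3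
  refine hne' ?_
  conv_lhs => rw [← h4]
  rw [cj_cj, mul_inv_cancel, cj_one']

section

variable {F : Type*} [Field F] [Fintype F] (hF : Fintype.card F = 3) (hq : HVQuot z V J F)

include hF hq

/-- A normal subgroup of the centraliser of `z` and `V` above the core is the core or everything. -/
theorem normal_cases (N : Subgroup ↥(centV z V)) [hN : N.Normal]
    (hJN : J.subgroupOf (centV z V) ≤ N) : N = J.subgroupOf (centV z V) ∨ N = ⊤ := by
  haveI hS := Cfsg.Agent.S0270.result (F := F) 2 le_rfl (fun _ => by omega)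
  obtain ⟨χ, hs, hk⟩ := hq
  have hker : χ.ker = J.subgroupOf (centV z V) := by
    ext x; rw [MonoidHom.mem_ker, hk, mem_subgroupOf]
  have hc : (N.map χ).comap χ = N := by
    rw [comap_map_eq, sup_eq_left, hker]; exact hJN
  rcases IsSimpleGroup.eq_bot_or_eq_top_of_normal (N.map χ) (hN.map χ hs) with h | h
  · left; rw [← hc, h, MonoidHom.comap_bot, hker]
  · right; rw [← hc, h, comap_top]

theorem core_HV : Cfsg.pCore 2 ↥(centV z V) = J.subgroupOf (centV z V) := by
  haveI : Fact (Nat.Prime 2) := ⟨Nat.prime_two⟩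
  have hJn : (J.subgroupOf (centV z V)).Normal := ⟨fun n hn g => by
    rw [mem_subgroupOf] at hn ⊢
    exact C.normJ g (mem_centV.1 g.2).1 n hn⟩
  have hle : J.subgroupOf (centV z V) ≤ Cfsg.pCore 2 ↥(centV z V) :=
    le_sSup ⟨hJn, C.Jp.comap_subtype⟩
  haveI : (Cfsg.pCore 2 ↥(centV z V)).Normal := pCore_normal 2 _
  rcases C.normal_cases hF hq _ hle with h | h
  · exact h
  · exfalso
    obtain ⟨χ, hs, -⟩ := hq
    have hp : IsPGroup 2 ↥(⊤ : Subgroup ↥(centV z V)) :=
      h ▸ Cores.pCore_isPGroup (p := 2) (G := ↥(centV z V))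
    have hp2 : IsPGroup 2 (Cfsg.PSp 2 F) :=
      (hp.of_equiv Subgroup.topEquiv).of_surjective χ hs
    obtain ⟨n, hn⟩ := IsPGroup.iff_card.1 hp2
    rw [card_psp hF] at hn
    have h3 : (3 : ℕ) ∣ 2 ^ n := hn ▸ by norm_num
    have := Nat.prime_three.dvd_of_dvd_pow h3
    norm_num at this

/-- An element acting on the core by elements of `V` lies in the core. -/
theorem cent_mod {x : G} (hx : InHV z V x) (h : ∀ q ∈ J, q⁻¹ * cj x q ∈ V) : x ∈ J := by
  let N : Subgroup G :=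
    { carrier := {x | InHV z V x ∧ ∀ q ∈ J, q⁻¹ * cj x q ∈ V}
      one_mem' := ⟨C.inHV_one, fun q _ => by simp [cj]⟩
      mul_mem' := by
        rintro x y ⟨hx, hx'⟩ ⟨hy, hy'⟩
        refine ⟨C.inHV_mul hx hy, fun q hq => ?_⟩
        have e : q⁻¹ * cj (x * y) q = q⁻¹ * cj x q * (q⁻¹ * cj y q) := by
          conv_lhs => rw [← cj_cj, show cj y q = q * (q⁻¹ * cj y q) from (mul_inv_cancel_left _ _).symm, cj_mul',
            cj_fix_iff.2 (hx.2 _ (hy' q hq))]
          group
        rw [e]; exact V.mul_mem (hx' q hq) (hy' q hq)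
      inv_mem' := by
        rintro x ⟨hx, hx'⟩
        refine ⟨C.inHV_inv hx, fun q hq => ?_⟩
        have e : q⁻¹ * cj x⁻¹ q = (q⁻¹ * cj x q)⁻¹ := by
          have h1 : cj x⁻¹ (q⁻¹ * cj x q) = q⁻¹ * cj x q :=
            cj_fix_iff.2 ((C.inHV_inv hx).2 _ (hx' q hq))
          rw [cj_mul', cj_inv_cj'] at h1
          rw [← h1, mul_inv_rev]
          simp [cj, mul_assoc]
        rw [e]; exact V.inv_mem (hx' q hq) }
  have hle : N ≤ centV z V := fun y hy => mem_centV.2 hy.1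
  haveI : (N.subgroupOf (centV z V)).Normal := ⟨fun n hn g => by
    rw [mem_subgroupOf] at hn ⊢
    have hg := mem_centV.1 g.2
    obtain ⟨hn1, hn2⟩ := hn
    refine ⟨C.inHV_cj hg.1 hn1, fun q hq => ?_⟩
    show q⁻¹ * cj (cj (g : G) (n : G)) q ∈ V
    have e : q⁻¹ * cj (cj (g : G) (n : G)) q
        = cj (g : G) ((cj (g : G)⁻¹ q)⁻¹ * cj (n : G) (cj (g : G)⁻¹ q)) := by
      simp [cj, mul_assoc]
    rw [e]
    exact C.normV _ hg.1 _ (hn2 _ (C.normJ _ (cz_inv hg.1) q hq))⟩
  haveI hJn : (J.subgroupOf (centV z V)).Normal := ⟨fun n hn g => by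
    rw [mem_subgroupOf] at hn ⊢
    exact C.normJ g (mem_centV.1 g.2).1 n hn⟩
  rcases C.normal_cases hF hq (J.subgroupOf (centV z V) ⊔ N.subgroupOf (centV z V)) le_sup_left
    with h' | h'
  · exact (h' ▸ (le_sup_right : _ ≤ J.subgroupOf (centV z V) ⊔ _)
      (show (⟨x, mem_centV.2 hx⟩ : ↥(centV z V)) ∈ N.subgroupOf (centV z V) from ⟨hx, h⟩) :)
  exfalso
  obtain ⟨χ, hs, hk⟩ := hq
  haveI : Fact (Nat.Prime 3) := ⟨Nat.prime_three⟩
  obtain ⟨y, hy⟩ := exists_prime_orderOf_dvd_card' (G := Cfsg.PSp 2 F) 3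
    (by rw [card_psp hF]; norm_num)
  obtain ⟨g, rfl⟩ := hs y
  obtain ⟨k, m, hm, hkm⟩ := Nat.exists_eq_two_pow_mul_odd (orderOf_pos g).ne'
  set g' := g ^ 2 ^ k with hg'
  have ho : Odd (orderOf g') := hm.of_dvd_nat (orderOf_dvd_of_pow_eq_one
    (by rw [hg', ← pow_mul, ← hkm, pow_orderOf_eq_one]))
  have hgJ : (g' : G) ∉ J := by
    intro hJ
    have h1 := (hk g').2 hJ
    rw [hg', map_pow] at h1
    have h2 : 3 ∣ 2 ^ k := hy ▸ orderOf_dvd_of_pow_eq_one h1
    have := Nat.prime_three.dvd_of_dvd_pow h2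
    norm_num at this
  obtain ⟨j, hj, n, ⟨hn1, hn2⟩, e⟩ := mem_sup_of_normal_left.1
    (show g' ∈ J.subgroupOf (centV z V) ⊔ N.subgroupOf (centV z V) from h'.symm ▸ mem_top _)
  have hg := mem_centV.1 g'.2
  have hcen : ∀ q ∈ J, (g' : G) * q = q * g' := by
    intro q hq'
    obtain ⟨u, hu2, hfix, hgq⟩ :
        ∃ u : G, u * u = 1 ∧ cj (g' : G) u = u ∧ cj (g' : G) q = q * u := by
      set v := q⁻¹ * cj (n : G) q with hv
      have hv' : v ∈ V := hn2 q hq'
      have e1 : cj (g' : G) q = cj (j : G) q * v := by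
        rw [← e, coe_mul, ← cj_cj, show cj (n : G) q = q * v from (mul_inv_cancel_left _ _).symm, cj_mul',
          cj_fix_iff.2 ((C.le _ (mem_subgroupOf.1 hj)).2 v hv')]
      rcases C.comm hq' (mem_subgroupOf.1 hj) with h1 | h1
      · refine ⟨v, C.V_sq v hv', cj_fix_iff.2 (hg.2 v hv'), ?_⟩
        rw [e1, cj_fix_iff.2 h1]
      · have hvz : v * z = z * v := (C.le v (C.V_le hv')).1
        refine ⟨z * v, ?_, ?_, ?_⟩
        · rw [mul_assoc, ← mul_assoc v, hvz, mul_assoc z, C.V_sq v hv', mul_one, C.z_sq]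
        · rw [cj_mul', cj_fix_iff.2 hg.1, cj_fix_iff.2 (hg.2 v hv')]
        · rw [e1, show cj (j : G) q = q * z from mul_inv_eq_iff_eq_mul.2 (by
            rw [h1, mul_assoc, (C.le _ (mem_subgroupOf.1 hj)).1, ← mul_assoc]), mul_assoc]
    have hn : ∀ i : ℕ, cj ((g' : G) ^ i) q = q * u ^ i := by
      intro i
      induction i with
      | zero => simp [cj]
      | succ i ih =>
        rw [pow_succ', ← cj_cj, ih, cj_mul', hgq,
          cj_fix_iff.2 ((show Commute (g' : G) u from cj_fix_iff.1 hfix).pow_right i).eq,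
          mul_assoc, ← pow_succ']
    obtain ⟨i, hi⟩ := ho
    have h1 := hn (2 * i + 1)
    rw [← hi, show (g' : G) ^ orderOf g' = 1 by
      rw [← SubgroupClass.coe_pow, pow_orderOf_eq_one]; rfl, cj_one', eq_comm, mul_eq_left,
      hi, pow_succ, pow_mul, pow_two, hu2, one_pow, one_mul] at h1
    rw [h1, mul_one] at hgq
    exact cj_fix_iff.1 hgq
  exact hgJ (C.cent _ hg.1 hcen)

end

end Config

end Cfsg.Agent.H33.Fi23z
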