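import Cfsg.Agent.H2.Fi22z.Setup
import Cfsg.Agent.Symplectic.Order

/-!
The configuration for the recognition of the third Fischer group by the centraliser of a
two-central involution: the core of the centraliser of `z` is the product of a four-group `V`,
normal in the centraliser, and an extraspecial group containing `z`.
-/

set_option autoImplicit false
set_option linter.style.haveILetI false
set_option linter.unusedSectionVars false

namespace Cfsg.Agent.H33.Fi23z

open Cfsg Subgroup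
open H76.LocallyS3 (cj)

variable {G : Type*} [Group G]

/-- Centralising `z` and every element of `V`. -/
def InHV (z : G) (V : Subgroup G) (h : G) : Prop := h * z = z * h ∧ ∀ v ∈ V, h * v = v * h

/-- The centraliser of `z` and `V`. -/
def centV (z : G) (V : Subgroup G) : Subgroup G :=
  centralizer ({z} : Set G) ⊓ centralizer (V : Set G)

theorem mem_centV {z h : G} {V : Subgroup G} : h ∈ centV z V ↔ InHV z V h := by
  rw [centV, InHV, mem_inf, mem_centralizer_singleton_iff, mem_centralizer_iff]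
  exact ⟨fun e => ⟨e.1, fun v hv => (e.2 v hv).symm⟩, fun e => ⟨e.1, fun v hv => (e.2 v hv).symm⟩⟩

/-- Membership in the product of `⟨z⟩` and `V`. -/
def InU (z : G) (V : Subgroup G) (x : G) : Prop := x ∈ V ∨ z * x ∈ V

/-- Normalising `V`. -/
def NormV (V : Subgroup G) (g : G) : Prop := ∀ v ∈ V, cj g v ∈ V

/-- The centraliser of `a` is an odd normal subgroup times the common centraliser with `z`. -/
def DecC (z a : G) : Prop :=
  ∃ W : Subgroup G, (∀ w ∈ W, w * a = a * w) ∧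
    (∀ h : G, h * a = a * h → ∀ w ∈ W, cj h w ∈ W) ∧ (∀ w ∈ W, Odd (orderOf w)) ∧
    ∀ h : G, h * a = a * h → ∃ w ∈ W, ∃ k : G, Cfsg.Agent.H2.Fi22z.InC z a k ∧ h = w * k

/-- The three classes of involutions of `⟨z⟩ × V` are not fused. -/
def Classes (z : G) (V : Subgroup G) : Prop :=
  ∀ v ∈ V, v ≠ 1 → ∀ g : G, cj g z ≠ v ∧ cj g z ≠ z * v ∧
    ∀ w ∈ V, w ≠ 1 → cj g v ≠ z * w

/-- The centraliser of `z` has core `J = V × E`. -/
structure Config (z : G) (V J E : Subgroup G) (c : G) : Prop where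
  z_ord : orderOf z = 2
  V_card : Nat.card ↥V = 4
  V_sq : ∀ v ∈ V, v * v = 1
  V_le : V ≤ J
  zV : z ∉ V
  zE : z ∈ E
  E_le : E ≤ J
  inf : V ⊓ E = ⊥
  dec : ∀ q ∈ J, ∃ v ∈ V, v * q ∈ E
  E_extra : Cfsg.IsExtraspecial 2 ↥E
  E_card : Nat.card ↥E = 2 ^ 9
  le : ∀ q ∈ J, InHV z V q
  Jp : IsPGroup 2 ↥J
  normJ : ∀ h : G, h * z = z * h → ∀ q ∈ J, cj h q ∈ J
  normV : ∀ h : G, h * z = z * h → ∀ v ∈ V, cj h v ∈ V
  cent : ∀ x : G, x * z = z * x → (∀ q ∈ J, x * q = q * x) → x ∈ J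
  c_comm : c * z = z * c
  c_cube : c ^ 3 = 1
  c_norm : ∀ h : G, h * z = z * h → cj h c * c⁻¹ ∈ J ∨ cj h c * c ∈ J
  c_J : ∀ q ∈ J, c * q = q * c → q = 1 ∨ q = z
  c_free : ∀ v ∈ V, c * v = v * c → v = 1
  inverter : ∃ t : G, t * z = z * t ∧ ∃ v ∈ V, v ≠ 1 ∧ t * v = v * t ∧
    ∃ w ∈ V, t * w ≠ w * t

/-- The hypotheses on the centralisers of the elements of `⟨z⟩ × V` in the degenerate case. -/
structure Degenerate (z : G) (V : Subgroup G) : Prop where
  classes : Classes z V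
  decX : ∀ v ∈ V, v ≠ 1 → DecC z (z * v)
  decY : (∀ v ∈ V, v ≠ 1 → DecC z v) ∨
    ∀ v ∈ V, v ≠ 1 → ∀ y : G, y * v = v * y → NormV V y

/-- A conjugate of `z` commuting with `z` comes from the normaliser of `V`. -/
def Star (z : G) (V : Subgroup G) : Prop := ∀ g : G, cj g z * z = z * cj g z → NormV V g

/-- The quotient of the centraliser of `z` and `V` by the core. -/
def HVQuot (z : G) (V J : Subgroup G) (F : Type*) [Field F] [Fintype F] : Prop :=
  ∃ χ : ↥(centV z V) →* Cfsg.PSp 2 F, Function.Surjective χ ∧ ∀ k, χ k = 1 ↔ (k : G) ∈ J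

end Cfsg.Agent.H33.Fi23z
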