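import Cfsg.Agent.H33.Fi23z.Quot
import Cfsg.Agent.H33.Fi23z.Act
import Cfsg.Agent.H2.Fi22z.Twin

/-!
The core modulo `⟨z⟩ × V` as the natural four-dimensional unitary module, with the semilinear
action of the whole centraliser of `z`.
-/

set_option autoImplicit false
set_option linter.style.haveILetI false
set_option linter.unusedSectionVars false
set_option maxRecDepth 20000

namespace Cfsg.Agent.H33.Fi23z

open Cfsg Subgroup
open Cfsg.Agent.H49.USix Cfsg.Agent.H49.UChar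
open Cfsg.Agent.Unitary (ap)
open Cfsg.Agent.H41.SUSix (K4 ω₄)
open Cfsg.Agent.H92.ExtraForm (zp)
open H76.LocallyS3 (cj cj_cj cj_injective)

/-- The centraliser of `z` acting on the core modulo `⟨z⟩ × V`. -/
structure Mod {G : Type*} [Group G] (z : G) (V J : Subgroup G) (c : G) where
  π : G → W4
  π_mul : ∀ p ∈ J, ∀ q ∈ J, π (p * q) = π p + π q
  π_surj : ∀ w, ∃ q ∈ J, π q = w
  π_zero : ∀ q ∈ J, π q = 0 ↔ InU z V q
  comm : ∀ q ∈ J, ∀ r ∈ J, r * q = q * r * zp z (pol4 (π q) (π r))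
  ρ : G → Equiv.Perm W4
  ρ_mul : ∀ a b : G, a * z = z * a → b * z = z * b → ρ (a * b) = ρ a * ρ b
  ρ_π : ∀ h : G, h * z = z * h → ∀ q ∈ J, π (cj h q) = ρ h (π q)
  ρ_add : ∀ h : G, h * z = z * h → ∀ u v, ρ h (u + v) = ρ h u + ρ h v
  ρ_ker : ∀ h : G, InHV z V h → (ρ h = 1 ↔ h ∈ J)
  ρ_iso : ∀ h : G, InHV z V h → Iso (ρ h)
  ρ_surj : ∀ g : ↥(Cfsg.SU 4 K4 2), ∃ h : G, InHV z V h ∧ ∀ w, ρ h w = ap g w
  cls : ∀ h : G, InHV z V h → h * h = 1 →
    h ∈ J ∨ (∃ k, ρ h = tp k) ∨ ∃ k l, Ort k l ∧ k ≠ l ∧ ρ h = tp k * tp l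
  κ_free : ∀ w, ρ c w = w → w = 0
  κ_comm : ∀ h : G, InHV z V h → ρ h * ρ c = ρ c * ρ h
  κ_inv : ∀ h : G, h * z = z * h → ¬ InHV z V h → (∃ v ∈ V, v ≠ 1 ∧ h * v = v * h) →
    ρ h * ρ c = (ρ c)⁻¹ * ρ h

namespace Config

variable {G : Type*} [Group G] [Finite G] {z c : G} {V J E : Subgroup G} (C : Config z V J E c)
include C

theorem mk3_cj {h q : G} (hh : InHV z V h) (hq : InHV z V q) :
    mk3 (C.inHV_cj hh.1 hq) = mk3 hh * mk3 hq * (mk3 hh)⁻¹ := rfl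

variable {F : Type*} [Field F] [Fintype F] (hF : Fintype.card F = 3) (hq : HVQuot z V J F)
include hF hq

theorem exists_core : Nonempty (H49.USix.Core C.zK C.JK) := by
  haveI : (Cfsg.pCore 2 ↥(centralizer ({C.zK} : Set (KQ z V)))).Normal := by
    haveI : Fact (Nat.Prime 2) := ⟨Nat.prime_two⟩
    exact pCore_normal 2 _
  obtain ⟨e⟩ := C.quot_equiv hF hq
  obtain ⟨P⟩ := exists_pre C.zK_ord hF (C.core_extra hF hq).1 (C.core_extra hF hq).2
    (C.core_cent hF hq) e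
  have hcm : ∀ k : KQ z V, k * C.zK = C.zK * k := C.zK_comm
  classical
  let π : G → P.V := fun q => if h : InHV z V q then P.π (mk3 h) else 0
  have hπ : ∀ q (h : InHV z V q), π q = P.π (mk3 h) := fun q h => dif_pos h
  have hm : ∀ q (h : q ∈ J), mk3 (C.le q h) ∈ C.JK := fun q h => (C.mem_JK hF hq _).2 h
  have π_mul : ∀ a ∈ J, ∀ b ∈ J, π (a * b) = π a + π b := fun a ha b hb => by
    rw [hπ _ (C.le _ (J.mul_mem ha hb)), hπ a (C.le a ha), hπ b (C.le b hb)]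
    exact P.π_mul _ (hm a ha) _ (hm b hb)
  have π_surj : ∀ w, ∃ q ∈ J, π q = w := fun w => by
    obtain ⟨k, hk, rfl⟩ := P.π_surj w
    obtain ⟨x, hx, rfl⟩ := mk3_surj k
    exact ⟨x, (C.mem_JK hF hq hx).1 hk, hπ x hx⟩
  have π_zero : ∀ q ∈ J, π q = 0 ↔ InU z V q := fun q hq' => by
    rw [hπ q (C.le q hq'), P.π_zero _ (hm q hq'), mk3_eq_one, eq_comm (b := C.zK), zK, mk3_eq,
      inv_eq_of_mul_eq_one_right C.z_sq]
    rfl
  obtain ⟨σ, hσπ, hσmul, hσadd, hσfree, hσcomm, -⟩ := C.exists_act π π_mul π_surj π_zero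
  rcases P.R.shape with ⟨h0, h4, h1⟩ | ⟨-, h4, -⟩
  · exact P.core h0 h4 h1
  refine (not_split P.R (σ c) (hσadd c C.c_comm) hσfree (fun g w => ?_)
    (h4 4 (by decide) (by decide))).elim
  obtain ⟨k, -, hk⟩ := P.ρ_range g
  obtain ⟨x, hx, rfl⟩ := mk3_surj k
  have hx' : σ x = P.R.φ g := Equiv.ext fun w => by
    obtain ⟨q, hqJ, rfl⟩ := π_surj w
    rw [← hσπ x hx.1 q hqJ, hπ _ (C.inHV_cj hx.1 (C.le q hqJ)), hπ q (C.le q hqJ), ← hk,
      ← P.ρ_π _ (hcm _) _ (hm q hqJ)]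
    rfl
  rw [← hx']
  exact (Equiv.congr_fun (hσcomm x hx) w).symm

theorem exists_mod : Nonempty (Mod z V J c) := by
  classical
  obtain ⟨S⟩ := C.exists_core hF hq
  let π : G → W4 := fun q => if h : InHV z V q then S.π (mk3 h) else 0
  have hπ : ∀ q (h : InHV z V q), π q = S.π (mk3 h) := fun q h => dif_pos h
  have hm : ∀ q (h : q ∈ J), mk3 (C.le q h) ∈ C.JK := fun q h => (C.mem_JK hF hq _).2 h
  have π_mul : ∀ a ∈ J, ∀ b ∈ J, π (a * b) = π a + π b := fun a ha b hb => by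
    rw [hπ _ (C.le _ (J.mul_mem ha hb)), hπ a (C.le a ha), hπ b (C.le b hb)]
    exact S.π_mul _ (hm a ha) _ (hm b hb)
  have π_surj : ∀ w, ∃ q ∈ J, π q = w := fun w => by
    obtain ⟨k, hk, rfl⟩ := S.π_surj w
    obtain ⟨x, hx, rfl⟩ := mk3_surj k
    exact ⟨x, (C.mem_JK hF hq hx).1 hk, hπ x hx⟩
  have π_zero : ∀ q ∈ J, π q = 0 ↔ InU z V q := fun q hq' => by
    rw [hπ q (C.le q hq'), S.π_zero _ (hm q hq'), mk3_eq_one, eq_comm (b := C.zK), zK, mk3_eq,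
      inv_eq_of_mul_eq_one_right C.z_sq]
    rfl
  obtain ⟨σ, hσπ, hσmul, hσadd, hσfree, hσcomm, hσinv⟩ := C.exists_act π π_mul π_surj π_zero
  have hσ : ∀ x (hx : InHV z V x), σ x = S.ρ (mk3 hx) := fun x hx => Equiv.ext fun w => by
    obtain ⟨q, hqJ, rfl⟩ := π_surj w
    rw [← hσπ x hx.1 q hqJ, hπ _ (C.inHV_cj hx.1 (C.le q hqJ)), hπ q (C.le q hqJ),
      ← S.ρ_π _ (C.zK_comm _) _ (hm q hqJ)]
    rfl
  refine ⟨{
    π := π, π_mul := π_mul, π_surj := π_surj, π_zero := π_zero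
    comm := fun q hq' r hr => ?_
    ρ := σ, ρ_mul := hσmul, ρ_π := hσπ, ρ_add := hσadd
    ρ_ker := fun h hh => by rw [hσ h hh, S.ρ_ker _ (C.zK_comm _), C.mem_JK hF hq]
    ρ_iso := fun h hh => by rw [hσ h hh]; exact S.ρ_iso _ (C.zK_comm _)
    ρ_surj := fun g => ?_
    cls := fun h hh h2 => ?_
    κ_free := hσfree, κ_comm := hσcomm, κ_inv := hσinv }⟩
  · rw [hπ q (C.le q hq'), hπ r (C.le r hr)]
    have h := S.comm _ (hm q hq') _ (hm r hr)
    set t := pol4 (S.π (mk3 (C.le q hq'))) (S.π (mk3 (C.le r hr)))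
    have hzt : zp C.zK t = mk3 (x := zp z t)
        (by rcases H2.Fi22z.zmod2_cases t with e | e <;> rw [e] <;> simp [zp]
            exacts [C.inHV_one, C.inHV_z]) := by
      rcases H2.Fi22z.zmod2_cases t with e | e <;> simp only [e, zp]
      · exact (mk3_eq_one.2 (by simpa using V.one_mem)).symm
      · simp [zK]
    rw [hzt] at h
    have h' : (r * q)⁻¹ * (q * r * zp z t) ∈ V := (mk3_eq
      (hx := C.inHV_mul (C.le r hr) (C.le q hq'))
      (hy := C.inHV_mul (C.inHV_mul (C.le q hq') (C.le r hr)) (by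
        rcases H2.Fi22z.zmod2_cases t with e | e <;> rw [e] <;> simp [zp]
        exacts [C.inHV_one, C.inHV_z]))).1 h
    obtain ⟨d, hd, hrq⟩ : ∃ d, (d = 1 ∨ d = z) ∧ r * q = q * r * d := by
      rcases C.comm hq' hr with e | e
      exacts [⟨1, Or.inl rfl, by rw [mul_one, e]⟩, ⟨z, Or.inr rfl, e⟩]
    rw [hrq, show (q * r * d)⁻¹ * (q * r * zp z t) = d⁻¹ * zp z t by group] at h'
    rw [hrq]
    congr 1
    rcases H2.Fi22z.zmod2_cases t with e | e <;> rcases hd with rfl | rfl <;>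
      simp [zp, e, C.zV, inv_eq_of_mul_eq_one_right C.z_sq] at h' ⊢
  · obtain ⟨k, -, hk⟩ := S.ρ_surj g
    obtain ⟨x, hx, rfl⟩ := mk3_surj k
    exact ⟨x, hx, fun w => by rw [hσ x hx]; exact hk w⟩
  · have h1 : σ h * σ h = 1 := by
      rw [← hσmul h h hh.1 hh.1, h2, hσ 1 C.inHV_one, S.ρ_ker _ (C.zK_comm _), C.mem_JK hF hq]
      exact J.one_mem
    rcases invol_cases (by rw [hσ h hh]; exact S.ρ_iso _ (C.zK_comm _)) h1 with e | e | e
    · rw [hσ h hh, S.ρ_ker _ (C.zK_comm _), C.mem_JK hF hq] at e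
      exact Or.inl e
    · exact Or.inr (Or.inl e)
    · exact Or.inr (Or.inr e)

end Config

end Cfsg.Agent.H33.Fi23z
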