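import Cfsg.Agent.H49.UChar.Rep

/-!
A fixed-point-free symmetry of order three of the representation excludes the split shape.
-/

set_option autoImplicit false
set_option linter.unusedSectionVars false
set_option maxRecDepth 20000

namespace Cfsg.Agent.H33.Fi23z

open Cfsg
open Cfsg.Agent.H49.UChar

theorem split_flip : ∃ σ : Equiv.Perm (Fin 4), ∃ t : T3,
    (∀ s : T3, ff (4 : Fin 13) (psh σ s) = ff (4 : Fin 13) s) ∧ chi (4 : Fin 13) t ≠ 0 ∧
      chi (4 : Fin 13) (psh σ t + t) = 0 ∧ chi (4 : Fin 13) (psh σ (t + t) + (t + t)) = 0 := by decide +kernel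

variable {V : Type*} [AddCommGroup V] [Module (ZMod 2) V] [Finite V] (R : Rep V)

theorem tt_congr {k : Fin 13} {s t : T3} (h : chi k (s - t) = 0) {v : V} (hv : v ∈ R.P k) :
    R.tt s v = R.tt t v := by
  conv_rhs => rw [← R.fix_mem h (R.tt_mem t hv), ← R.tt_add, sub_add_cancel]

/-- A fixed-point-free additive map commuting with the representation excludes four planes of the
second kind. -/
theorem not_split (κ : Equiv.Perm V) (add : ∀ u v, κ (u + v) = κ u + κ v)
    (free : ∀ v, κ v = v → v = 0) (comm : ∀ g v, κ (R.φ g v) = R.φ g (κ v))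
    (h4 : Nat.card ↥(R.P 4) = 4) : False := by
  classical
  let kap : V →ₗ[ZMod 2] V :=
    { toFun := κ, map_add' := add
      map_smul' := fun a v => by
        have h0 : κ 0 = 0 := by
          have := add 0 0
          rw [add_zero] at this
          exact left_eq_add.1 this
        rcases (show a = 0 ∨ a = 1 by revert a; decide) with rfl | rfl
        · simp [h0]
        · simp }
  have hop : ∀ f v, κ (R.op f v) = R.op f (κ v) := by
    intro f v
    show kap (R.op f v) = _
    rw [Rep.op, map_sum, Rep.op]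
    refine Finset.sum_congr rfl fun s _ => ?_
    rw [map_smul]
    exact congrArg (f s • ·) (comm (dg s) v)
  have hP : ∀ v ∈ R.P 4, κ v ∈ R.P 4 := by
    intro v hv
    show R.op (ff 4) (κ v) = κ v
    rw [← hop, show R.op (ff 4) v = v from hv]
  obtain ⟨σ, t, hσ, ht, hf1, hf2⟩ := split_flip
  have hσP : ∀ v, R.pr 4 (R.φ (pm σ) v) = R.φ (pm σ) (R.pr 4 v) := by
    intro v
    show R.op (ff 4) _ = R.lin (pm σ) _
    rw [Rep.op, Rep.pr, Rep.op, map_sum]
    have hb : Function.Bijective (psh σ) := Finite.injective_iff_bijective.1 fun s s' e => by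
      have h : ∀ i, ext4 s (σ i) = ext4 s' (σ i) := fun i => by rw [← ext4_psh, e, ext4_psh]
      funext j
      have h' := h (σ.symm j.castSucc)
      rw [Equiv.apply_symm_apply] at h'
      have key : ∀ s : T3, ∀ j : Fin 3, ext4 s j.castSucc = s j := by decide +kernel
      rwa [key, key] at h'
    refine (Fintype.sum_equiv (Equiv.ofBijective _ hb) _ _ fun s => ?_).symm
    rw [(R.lin (pm σ)).map_smul, Equiv.ofBijective_apply, hσ, Rep.lin_apply, Rep.tt, Rep.tt,
      ← Equiv.Perm.mul_apply, ← map_mul, pm_dg, map_mul, Equiv.Perm.mul_apply]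
  haveI : Fintype ↥(R.P 4) := Fintype.ofFinite _
  obtain ⟨⟨v, hv⟩, hne⟩ : ∃ v : ↥(R.P 4), v ≠ 0 := by
    haveI : Nontrivial ↥(R.P 4) := Finite.one_lt_card_iff_nontrivial.1 (by omega)
    exact exists_ne 0
  have hv0 : v ≠ 0 := fun e => hne (Subtype.ext e)
  have ht2 : chi (4 : Fin 13) (t + t) ≠ 0 := by
    rw [chi_add]
    generalize chi (4 : Fin 13) t = a at ht
    revert a
    decide
  -- the four elements of the plane
  have hfour : ∀ w ∈ R.P 4, w = 0 ∨ w = v ∨ w = R.tt t v ∨ w = R.tt (t + t) v := by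
    intro w hw
    let f : Fin 4 → ↥(R.P 4) := ![0, ⟨v, hv⟩, ⟨_, R.tt_mem t hv⟩, ⟨_, R.tt_mem (t + t) hv⟩]
    have hz : ∀ s w, R.tt s w = 0 → w = 0 := fun s w e => by
      have h := congrArg (R.tt (s + s)) e
      rwa [← R.tt_add, show s + s + s = 0 from three_t s, R.tt_zero,
        show R.tt (s + s) (0 : V) = 0 from R.phi_zero _] at h
    have hne' : R.tt t v ≠ R.tt (t + t) v := by
      intro e
      rw [R.tt_add] at e
      exact hv0 (hz t _ (R.free_mem ht (R.tt_mem t hv) e.symm))
    have hinj : Function.Injective f := by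
      intro i j e
      have e' := congrArg Subtype.val e
      fin_cases i <;> fin_cases j <;> first
        | rfl
        | (exfalso; simp [f] at e'; done)
        | (exfalso; simp [f] at e'
           first
            | exact hv0 e'
            | exact hv0 e'.symm
            | exact hv0 (hz _ _ e')
            | exact hv0 (hz _ _ e'.symm)
            | exact hv0 (R.free_mem ht hv e')
            | exact hv0 (R.free_mem ht hv e'.symm)
            | exact hv0 (R.free_mem ht2 hv e')
            | exact hv0 (R.free_mem ht2 hv e'.symm)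
            | exact hne' e'
            | exact hne' e'.symm)
    have hsurj : Function.Surjective f :=
      ((Fintype.bijective_iff_injective_and_card f).2 ⟨hinj, by
        rw [Fintype.card_fin, ← Nat.card_eq_fintype_card, h4]⟩).2
    obtain ⟨i, hi⟩ := hsurj ⟨w, hw⟩
    have hi' := congrArg Subtype.val hi
    fin_cases i <;> simp [f] at hi' <;> simp [← hi']
  obtain ⟨s, hs, hflip, hκ⟩ : ∃ s, chi (4 : Fin 13) s ≠ 0 ∧ chi (4 : Fin 13) (psh σ s + s) = 0 ∧
      κ v = R.tt s v := by
    rcases hfour _ (hP v hv) with e | e | e | e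
    · exact absurd (κ.injective (e.trans kap.map_zero.symm)) hv0
    · exact absurd (free v e) hv0
    · exact ⟨t, ht, hf1, e⟩
    · exact ⟨t + t, ht2, hf2, e⟩
  have hall : ∀ w ∈ R.P 4, κ w = R.tt s w := by
    intro w hw
    rcases hfour w hw with rfl | rfl | rfl | rfl
    · exact kap.map_zero.trans (R.phi_zero _).symm
    · exact hκ
    · show κ (R.φ (dg t) v) = _
      rw [comm, hκ, ← Rep.tt, ← R.tt_add, ← R.tt_add, add_comm]
    · show κ (R.φ (dg (t + t)) v) = _
      rw [comm, hκ, ← Rep.tt, ← R.tt_add, ← R.tt_add, add_comm]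
  set w := R.φ (pm σ) v with hwdef
  have hw : w ∈ R.P 4 := by
    show R.pr 4 w = w
    rw [hwdef, hσP, show R.pr 4 v = v from hv]
  have e : κ w = R.tt (psh σ s) w := by
    rw [hwdef, comm, hκ, Rep.tt, Rep.tt, ← Equiv.Perm.mul_apply, ← map_mul, pm_dg, map_mul,
      Equiv.Perm.mul_apply]
  rw [hall w hw] at e
  have hss : chi (4 : Fin 13) (s + s) ≠ 0 := by
    rw [chi_add]
    generalize chi (4 : Fin 13) s = a at hs
    revert a
    decide
  have e2 := congrArg (R.tt s) e
  rw [← R.tt_add, ← R.tt_add, R.fix_mem (t := s + psh σ s) (by rwa [add_comm]) hw] at e2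
  refine hv0 ((R.φ (pm σ)).injective ?_)
  rw [R.phi_zero]
  exact R.free_mem hss hw e2

end Cfsg.Agent.H33.Fi23z
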