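import Cfsg.Agent.H33.Fi23z.Basic
import Cfsg.Agent.H33.Fi23z.Split
import Cfsg.Agent.H49.UChar.Setup

/-!
The centraliser of `z` and `V` modulo `V`: its core is extraspecial and the associated
representation has the natural shape.
-/

set_option autoImplicit false
set_option linter.style.haveILetI false
set_option linter.unusedSectionVars false
set_option maxRecDepth 20000

namespace Cfsg.Agent.H33.Fi23z

open Cfsg Subgroup
open Cfsg.Agent.H49.USix Cfsg.Agent.H49.UChar
open Cfsg.Agent.H92.ExtraForm (zp)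
open H76.LocallyS3 (cj cj_cj cj_injective)

/-- The subgroup `V` of the common centraliser. -/
abbrev VC {G : Type*} [Group G] (z : G) (V : Subgroup G) := V.subgroupOf (centV z V)

instance normal_VC {G : Type*} [Group G] (z : G) (V : Subgroup G) : (VC z V).Normal :=
  ⟨fun n hn g => by
    rw [mem_subgroupOf] at hn ⊢
    rw [coe_mul, coe_mul, coe_inv, (mem_centV.1 g.2).2 _ hn, mul_inv_cancel_right]
    exact hn⟩

/-- The common centraliser of `z` and `V` modulo `V`. -/
abbrev KQ {G : Type*} [Group G] (z : G) (V : Subgroup G) := ↥(centV z V) ⧸ VC z V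

/-- The class of an element of the common centraliser. -/
def mk3 {G : Type*} [Group G] {z : G} {V : Subgroup G} {x : G} (hx : InHV z V x) : KQ z V :=
  QuotientGroup.mk ⟨x, mem_centV.2 hx⟩

theorem mk3_eq_one {G : Type*} [Group G] {z : G} {V : Subgroup G} {x : G} {hx : InHV z V x} :
    mk3 hx = 1 ↔ x ∈ V := (QuotientGroup.eq_one_iff _).trans mem_subgroupOf

theorem mk3_eq {G : Type*} [Group G] {z : G} {V : Subgroup G} {x y : G} {hx : InHV z V x}
    {hy : InHV z V y} : mk3 hx = mk3 hy ↔ x⁻¹ * y ∈ V := by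
  rw [mk3, mk3, QuotientGroup.eq, mem_subgroupOf, coe_mul, coe_inv]

theorem mk3_surj {G : Type*} [Group G] {z : G} {V : Subgroup G} (k : KQ z V) :
    ∃ x, ∃ hx : InHV z V x, k = mk3 hx := by
  obtain ⟨⟨x, hx⟩, rfl⟩ := QuotientGroup.mk_surjective k
  exact ⟨x, mem_centV.1 hx, rfl⟩

namespace Config

variable {G : Type*} [Group G] [Finite G] {z c : G} {V J E : Subgroup G} (C : Config z V J E c)
include C

/-- The image of `z`. -/
def zK : KQ z V := mk3 C.inHV_z

theorem zK_comm (k : KQ z V) : k * C.zK = C.zK * k := by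
  obtain ⟨x, hx, rfl⟩ := mk3_surj k
  rw [zK, mk3, mk3, ← QuotientGroup.mk_mul, ← QuotientGroup.mk_mul]
  exact congrArg _ (Subtype.ext hx.1)

theorem zK_ord : orderOf C.zK = 2 := by
  refine orderOf_eq_prime ?_ ?_
  · rw [pow_two, zK, mk3, ← QuotientGroup.mk_mul, QuotientGroup.eq_one_iff, mem_subgroupOf,
      coe_mul, C.z_sq]
    exact V.one_mem
  · intro e
    exact C.zV (mk3_eq_one.1 e)

/-- The core of the quotient. -/
def JK : Subgroup (KQ z V) :=
  (Cfsg.pCore 2 ↥(centralizer ({C.zK} : Set (KQ z V)))).map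
    (centralizer ({C.zK} : Set (KQ z V))).subtype

/-- The map onto the centraliser of the image of `z`. -/
def toK : ↥(centV z V) →* ↥(centralizer ({C.zK} : Set (KQ z V))) :=
  MonoidHom.codRestrict (QuotientGroup.mk' _) _
    fun c => mem_centralizer_singleton_iff.2 (C.zK_comm _)

theorem toK_surj : Function.Surjective C.toK := by
  intro y
  obtain ⟨x, hx⟩ := QuotientGroup.mk'_surjective _ (y : KQ z V)
  exact ⟨x, Subtype.ext hx⟩

theorem toK_eq_one {x : ↥(centV z V)} : C.toK x = 1 ↔ (x : G) ∈ V := by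
  rw [← Subtype.coe_inj]
  exact (QuotientGroup.eq_one_iff _).trans mem_subgroupOf

variable {F : Type*} [Field F] [Fintype F] (hF : Fintype.card F = 3) (hq : HVQuot z V J F)
include hF hq

theorem map_core : (J.subgroupOf (centV z V)).map C.toK =
    Cfsg.pCore 2 ↥(centralizer ({C.zK} : Set (KQ z V))) := by
  haveI : Fact (Nat.Prime 2) := ⟨Nat.prime_two⟩
  have hJn : (J.subgroupOf (centV z V)).Normal := ⟨fun n hn g => by
    rw [mem_subgroupOf] at hn ⊢
    exact C.normJ g (mem_centV.1 g.2).1 n hn⟩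
  refine le_antisymm (le_sSup ⟨hJn.map _ C.toK_surj, (C.Jp.comap_subtype).map _⟩) ?_
  intro y hy
  obtain ⟨x, rfl⟩ := C.toK_surj y
  refine mem_map_of_mem _ ?_
  let N := (Cfsg.pCore 2 ↥(centralizer ({C.zK} : Set (KQ z V)))).comap C.toK
  haveI : (Cfsg.pCore 2 ↥(centralizer ({C.zK} : Set (KQ z V)))).Normal := pCore_normal 2 _
  have hNp : IsPGroup 2 ↥N := by
    intro n
    obtain ⟨k, hk⟩ := Cores.pCore_isPGroup (p := 2)
      (G := ↥(centralizer ({C.zK} : Set (KQ z V)))) ⟨C.toK n, n.2⟩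
    have hk' : C.toK ((n : ↥(centV z V)) ^ 2 ^ k) = 1 := by
      rw [map_pow]; exact congrArg Subtype.val hk
    refine ⟨k + 1, Subtype.ext (Subtype.ext ?_)⟩
    simp only [SubgroupClass.coe_pow, coe_one]
    rw [pow_succ, pow_mul, pow_two]
    have hV := C.toK_eq_one.1 hk'
    rw [SubgroupClass.coe_pow] at hV
    exact C.V_sq _ hV
  have hle : N ≤ Cfsg.pCore 2 ↥(centV z V) := le_sSup ⟨inferInstance, hNp⟩
  rw [← C.core_HV hF hq]
  exact hle hy

theorem core_extra :
    Cfsg.IsExtraspecial 2 ↥(Cfsg.pCore 2 ↥(centralizer ({C.zK} : Set (KQ z V)))) ∧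
    Nat.card ↥(Cfsg.pCore 2 ↥(centralizer ({C.zK} : Set (KQ z V)))) = 2 ^ 9 := by
  have hle : E ≤ centV z V := fun q hq => mem_centV.2 (C.le q (C.E_le hq))
  let θ : ↥E →* ↥(centralizer ({C.zK} : Set (KQ z V))) := C.toK.comp (Subgroup.inclusion hle)
  have hinj : Function.Injective θ := (injective_iff_map_eq_one θ).2 fun x hx => by
    have h1 : (x : G) ∈ V ⊓ E := ⟨C.toK_eq_one.1 hx, x.2⟩
    rw [C.inf, mem_bot] at h1
    exact Subtype.ext h1
  have hr : θ.range = Cfsg.pCore 2 ↥(centralizer ({C.zK} : Set (KQ z V))) := by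
    rw [← C.map_core hF hq]
    ext y
    constructor
    · rintro ⟨x, rfl⟩
      exact mem_map_of_mem _ (mem_subgroupOf.2 (C.E_le x.2))
    · rintro ⟨x, hx, rfl⟩
      obtain ⟨v, hv, he⟩ := C.dec x (mem_subgroupOf.1 hx)
      refine ⟨⟨_, he⟩, ?_⟩
      have hv' : v ∈ centV z V := mem_centV.2 (C.le v (C.V_le hv))
      show C.toK (⟨v, hv'⟩ * x) = _
      rw [map_mul, C.toK_eq_one.2 hv, one_mul]
  let e : ↥E ≃* ↥(Cfsg.pCore 2 ↥(centralizer ({C.zK} : Set (KQ z V)))) :=
    (MonoidHom.ofInjective hinj).trans (MulEquiv.subgroupCongr hr)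
  exact ⟨H92.isExtraspecial_of_mulEquiv e C.E_extra,
    (Nat.card_congr e.toEquiv).symm.trans C.E_card⟩

theorem core_cent :
    centralizer ((Cfsg.pCore 2 ↥(centralizer ({C.zK} : Set (KQ z V)))) :
      Set ↥(centralizer ({C.zK} : Set (KQ z V)))) ≤
      Cfsg.pCore 2 ↥(centralizer ({C.zK} : Set (KQ z V))) := by
  intro y hy
  obtain ⟨x, rfl⟩ := C.toK_surj y
  rw [← C.map_core hF hq] at hy ⊢
  refine mem_map_of_mem _ (mem_subgroupOf.2 (C.cent_mod hF hq (mem_centV.1 x.2) fun q hq' => ?_))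
  let q' : ↥(centV z V) := ⟨q, mem_centV.2 (C.le q hq')⟩
  have h := mem_centralizer_iff.1 hy (C.toK q') (mem_map_of_mem _ (mem_subgroupOf.2 hq'))
  exact (C.toK_eq_one (x := q'⁻¹ * (x * q' * x⁻¹))).1
    (by rw [map_mul, map_mul, map_mul, map_inv, map_inv, ← h]; group)

theorem quot_equiv [(Cfsg.pCore 2 ↥(centralizer ({C.zK} : Set (KQ z V)))).Normal] :
    Nonempty ((↥(centralizer ({C.zK} : Set (KQ z V))) ⧸
      Cfsg.pCore 2 ↥(centralizer ({C.zK} : Set (KQ z V)))) ≃* Cfsg.PSp 2 F) := by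
  obtain ⟨χ, hs, hk⟩ := hq
  let f := (QuotientGroup.mk' (Cfsg.pCore 2 ↥(centralizer ({C.zK} : Set (KQ z V))))).comp C.toK
  have hf : Function.Surjective f := (QuotientGroup.mk'_surjective _).comp C.toK_surj
  have hker : f.ker = χ.ker := by
    ext x
    rw [MonoidHom.mem_ker, MonoidHom.mem_ker, hk]
    show QuotientGroup.mk' _ (C.toK x) = 1 ↔ _
    rw [QuotientGroup.mk'_apply, QuotientGroup.eq_one_iff, ← C.map_core hF ⟨χ, hs, hk⟩]
    refine ⟨?_, fun h => mem_map_of_mem _ (mem_subgroupOf.2 h)⟩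
    rintro ⟨d, hd, e⟩
    have h1 : C.toK (d⁻¹ * x) = 1 := by rw [map_mul, map_inv, e, inv_mul_cancel]
    rw [show (x : G) = (d : G) * ((d⁻¹ * x : ↥(centV z V)) : G) from by
      rw [coe_mul, coe_inv, mul_inv_cancel_left]]
    exact J.mul_mem (mem_subgroupOf.1 hd) (C.V_le (C.toK_eq_one.1 h1))
  exact ⟨(QuotientGroup.quotientKerEquivOfSurjective f hf).symm.trans
    ((QuotientGroup.quotientMulEquivOfEq hker).trans
      (QuotientGroup.quotientKerEquivOfSurjective χ hs))⟩

theorem mem_JK {x : G} (hx : InHV z V x) : mk3 hx ∈ C.JK ↔ x ∈ J := by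
  let d : ↥(centV z V) := ⟨x, mem_centV.2 hx⟩
  constructor
  · rintro ⟨y, hy, e⟩
    rw [← C.map_core hF hq] at hy
    obtain ⟨d', hd, rfl⟩ := hy
    have h : C.toK (d'⁻¹ * d) = 1 := by
      rw [map_mul, map_inv, inv_mul_eq_one]
      exact Subtype.ext e
    have := J.mul_mem (mem_subgroupOf.1 hd) (C.V_le (C.toK_eq_one.1 h))
    rwa [coe_mul, coe_inv, mul_inv_cancel_left] at this
  · intro h
    exact ⟨C.toK d, C.map_core hF hq ▸ mem_map_of_mem _ (mem_subgroupOf.2 h), rfl⟩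

end Config

end Cfsg.Agent.H33.Fi23z
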